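import Cfsg.Agent.Lib.MinE6T.InstU
import Cfsg.Agent.S1066
import Cfsg.Prelude.Def_LieTwisted

/-! The instance. See PLAN.md, `Inst`. -/

set_option autoImplicit false
set_option linter.unusedSectionVars false
set_option linter.unusedVariables false

namespace Cfsg.Agent.Lib.MinE6T

open Cfsg Lie

/-- The instance. -/
theorem exists_sysT {K : Type*} [Field K] [Fintype K] {q : ℕ} (hq : IsPrimePow q) (hK : Fintype.card K = q ^ 2) :
    ∃ (φ : K ≃+* K) (k₀ : Subfield K), Frob φ k₀.subtype q ∧ ∃ S : SysT φ k₀.subtype ↥(Cfsg.Lie.twistedE6 K q), Nonempty (SuT S q) := by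
  obtain ⟨φ, hF⟩ := exists_frobT (K := K) hq hK
  have ax := Cfsg.Agent.Lib.Lie.AxOf.ax_of_mem (F := K) Cfsg.Agent.Lib.Twisted.E6.hmemE6
  exact ⟨φ, kF φ, hF, sysT φ ax hF.pow hF.inv, exists_suT φ ax hF.pow hF.inv hK⟩

/-- The order of the group divides `NN q`. -/
theorem card_dvd {K : Type*} [Field K] [Fintype K] {q : ℕ} (hq : IsPrimePow q) (hK : Fintype.card K = q ^ 2) :
    Nat.card ↥(Cfsg.Lie.twistedE6 K q) ∣ NN q := by
  have h := Cfsg.Agent.S1066.result hq hK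
  refine ⟨Nat.gcd 3 (q + 1), ?_⟩
  unfold NN
  rw [mul_comm (Nat.card _)]
  rw [h]
  ring

end Cfsg.Agent.Lib.MinE6T
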