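import Cfsg.Agent.Lib.MinE6T.InstC
import Cfsg.Agent.Lib.Twisted.FixComm
import Cfsg.Agent.Lib.SUDeg.Final
import Cfsg.Agent.Lib.MinE6T.InstSU
import Cfsg.Agent.Lib.PresU.Even
import Cfsg.Agent.Lib.PresU.Conc2

/-! The homomorphism from `SU₆(q)`.
`slh (T_ij(a)) = x_{rt i j}(-a)`, `s x_{rt i j}(t) = x_{rt τj τi}(κ φ t)`, `κ = gm (rt i j) = (-1)^(i+j+1)`.
So `s (slh h) = slh (θ h)`, `θ (T_ij(a)) = T_{τj τi}(κ_ij φ a)`, `θ h = J (h^φ)^{-T} J⁻¹`, `J x (τ x) = (-1)^x`. So `θ h = h ⟺ IsU σ J₁ h`, `J₁ = J⁻¹`, `J₁ (τ x) x = (-1)^x` (`IsU σ J M ⟺ Mᵀ * J * M.map σ = J`, `Lib/PresU/Tgt`).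
Relation to `GE σ (Fin 3) = SUg σ (JE (Fin 3) K)`, `JE = [[0,1],[1,0]]`: index `e : Fin 3 ⊕ Fin 3 ≃ Fin 6`, `inl a ↦ a`, `inr a ↦ 5 - a`, `D = diag(1 on inl, c_a = s (-1)^a on inr)` with `σ s = -s`, `s ≠ 0`: `Dᵀ J₁' D^σ = s · JE`. `Cfsg.SU 6 K q ≃ GE σ (Fin 3)` by `gram_even` + `su_bridge` (`Lib/PresU/Conc.lean`, `Brg.lean`; see `su_even_main` in `Conc2.lean` for the use). Generation of `GE`: `gen_even`+`closure_tv` (levS and lgS at an index `b`) and `levS (T_ab(t)) ↦ T_ab(t) T_{τb τa}(κ_ab σ t)`, `lgS (uu x), lgS (ll x) ↦` transvections at `(b, τ b)`, `(τ b, b)` with parameter `± j x`.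
-/

set_option autoImplicit false
set_option linter.unusedSectionVars false
set_option linter.unusedVariables false
set_option linter.ambiguousOpen false

namespace Cfsg.Agent.Lib.MinE6T

open Cfsg Lie Matrix
open Cfsg.Agent.Lib.Chev
open Tables Tables2 AxBasic Torus Mono1
open Cfsg.Agent.Lib.MinE6 Cfsg.Agent.Lib.MinE6.InstAux
open Cfsg.Agent.Lib.Twisted.E6 Cfsg.Agent.Lib.ChevTwo.E6Tw Cfsg.Agent.Lib.Twisted.Tw

variable {K : Type*} [Field K] [Fintype K] [DecidableEq K] (φ : K ≃+* K) (ax : Ax chevE6 K) {q : ℕ} (hφ : ∀ t, φ t = t ^ q) (hφ2 : ∀ t, φ (φ t) = t)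

/-- The sign of `rt a b`: `gm (rt a b) = (-1)^(a+b+1)`. -/
theorem gm_rt (a b : Fin 6) (hab : a ≠ b) : gm (K := K) (rt a b) = ((-1 : K) ^ (a.val + b.val + 1)) := by
  rw [InstSUAux.gm_rt_κ a b hab]
  unfold SM.κ SM.sgn
  rw [pow_succ, pow_add]
  ring

open scoped Classical in
/-- The root elements in `SL₆(K)`: for `slh (tv a b t) = lG φ ax a b (-t)`. -/
noncomputable def tv (a b : Fin 6) (hab : a ≠ b) (t : K) : SpecialLinearGroup (Fin 6) K :=
  if hb : b = ti a then SpecialLinearGroup.transvection hab t else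
    SpecialLinearGroup.transvection hab t * SpecialLinearGroup.transvection (i := ti b) (j := ti a) (by
      intro h; exact hab (Fin.rev_injective h).symm) (gm (rt a b) * φ t)

/-- `slh` on `tv`. -/
theorem slh_tv [Finite K] (a b : Fin 6) (hab : a ≠ b) (t : K) :
    (((sys0 ax).slh (tv φ a b hab t) : ↥(chevE6.group K)) : GL chevE6.Idx K) = lG φ ax a b (-t) := by
  unfold tv lG
  by_cases hb : b = ti a
  · rw [dif_pos hb, if_pos hb]
    have e1 : (((sys0 ax).slh (SpecialLinearGroup.transvection hab t) : ↥(chevE6.group K)) : GL chevE6.Idx K) =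
        xG ax (rt a b) (-1 * t) := congrArg Subtype.val ((sys0 ax).slh_tr a b hab t)
    rw [e1, neg_one_mul]
  · rw [dif_neg hb, if_neg hb, map_mul, Subgroup.coe_mul]
    have e1 : (((sys0 ax).slh (SpecialLinearGroup.transvection hab t) : ↥(chevE6.group K)) : GL chevE6.Idx K) =
        xG ax (rt a b) (-1 * t) := congrArg Subtype.val ((sys0 ax).slh_tr a b hab t)
    have hji : ti b ≠ ti a := fun h => hab (Fin.rev_injective h).symm
    have e2 : (((sys0 ax).slh (SpecialLinearGroup.transvection hji (gm (rt a b) * φ t)) : ↥(chevE6.group K)) : GL chevE6.Idx K) =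
        xG ax (rt (ti b) (ti a)) (-1 * (gm (rt a b) * φ t)) :=
      congrArg Subtype.val ((sys0 ax).slh_tr _ _ hji _)
    rw [e1, e2, map_neg, neg_one_mul]
    congr 2
    ring

/-- The matrix part (no `E₆`): the `J₁`-unitary group is the image of `SU₆(q)`; it contains the `tv a b t` (`Al`), and is generated by them. -/
theorem exists_su_mat (hφ : ∀ t, φ t = t ^ q) (hφ2 : ∀ t, φ (φ t) = t) (hK : Fintype.card K = q ^ 2) : ∃ τ₀ : ↥(Cfsg.SU 6 K q) →* SpecialLinearGroup (Fin 6) K,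
    (∀ a b t (hab : a ≠ b), Al φ a b t → ∃ g, τ₀ g = tv φ a b hab t) ∧
    (∀ g, (((sys0 ax).slh (τ₀ g) : ↥(chevE6.group K)) : GL chevE6.Idx K) ∈ twistedE6 K q) := by
  classical
  have hσ : Cfsg.Agent.Lib.HermCount.Field.frobHom hK = φ.toRingHom := RingHom.ext fun t => by
    show t ^ q = φ t
    rw [hφ]
  obtain ⟨τ₀, hfix, hsurj⟩ := SM.exists_τ₀ hK
  rw [hσ] at hfix hsurj
  refine ⟨τ₀, fun a b t hab ht => ?_, fun g => ?_⟩
  · have e : tv φ a b hab t = SM.tvS φ.toRingHom a b hab t := by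
      unfold tv SM.tvS
      by_cases hb : b = ti a
      · rw [dif_pos hb, dif_pos (show b = Fin.rev a from hb)]
      · rw [dif_neg hb, dif_neg (show ¬ b = Fin.rev a from hb), InstSUAux.gm_rt_κ a b hab]
        rfl
    rw [e]
    exact hsurj _ (SM.tv_fix (σ := φ.toRingHom) hφ2 hab (fun hb => ht hb))
  · have hP : commutator ↥(Cfsg.SU 6 K q) = ⊤ :=
      Cfsg.Agent.Lib.Classical.SympSimple.commutator_eq_top_of_mulEquiv (Cfsg.Agent.Lib.Classical.HermBridge.suEquiv 6 q)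
        (Cfsg.Agent.Lib.Classical.HermSimple.commutator_eq_top (Cfsg.Agent.Lib.Classical.HermBridge.hform hK 6)
          (Cfsg.Agent.Lib.Classical.HermBridge.invol_frob hK) (Cfsg.Agent.Lib.Classical.HermBridge.perfect_hyp hK (by norm_num) (by omega))
          (by rw [Module.finrank_fin_fun]; norm_num))
    let f : ↥(Cfsg.SU 6 K q) →* GL chevE6.Idx K := (chevE6.group K).subtype.comp ((sys0 ax).slh.comp τ₀)
    refine Cfsg.Agent.Lib.Twisted.FixComm.map_perfect_mem (TE φ hφ hφ2 ax) hE2 hP f (fun x => ⟨((sys0 ax).slh (τ₀ x)).2, ?_⟩) g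
    show (twE φ ax).s (((sys0 ax).slh (τ₀ x) : ↥(chevE6.group K)) : GL chevE6.Idx K) = _
    rw [s_slh, hfix]
    rfl

end Cfsg.Agent.Lib.MinE6T
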