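import Cfsg.Agent.Lib.MinE6T.InstN2
import Cfsg.Agent.Lib.MinE6T.InstS

/-! The homomorphism `SU₆(q) → ²E₆(q)` and its relations. -/

set_option autoImplicit false
set_option linter.unusedSectionVars false
set_option linter.unusedVariables false
set_option linter.ambiguousOpen false

namespace Cfsg.Agent.Lib.MinE6T

open Cfsg Lie Matrix
open Cfsg.Agent.Lib.Chev
open Tables Tables2 AxBasic Torus Mono1
open Cfsg.Agent.Lib.MinE6 Cfsg.Agent.Lib.MinE6.InstAux
open Cfsg.Agent.Lib.Twisted.E6 Cfsg.Agent.Lib.ChevTwo.E6Tw Cfsg.Agent.Lib.Twisted.Tw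
open NbAux

namespace SuAux

/-- A permutation of the list changes the product by a central element. -/
lemma EL_perm {F Ĝ : Type*} [Field F] [Group Ĝ] (S : SysE F Ĝ) {L L' : List S3} (h : L.Perm L') (b : S3 → F) :
    ∃ w, InstEAux.EL S L b = InstEAux.EL S L' b * S.x 71 w := by
  induction h with
  | nil =>
    refine ⟨0, ?_⟩
    rw [InstEAux.z_zero, mul_one]
  | @cons T L L' _ ih =>
    obtain ⟨w, hw⟩ := ih
    refine ⟨w, ?_⟩
    rw [InstEAux.EL_cons, InstEAux.EL_cons, hw, mul_assoc]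
  | @swap T T' L =>
    obtain ⟨v, hv⟩ : ∃ v, S.x (gam T') (b T') * S.x (gam T) (b T) = S.x (gam T) (b T) * S.x (gam T') (b T') * S.x 71 v := by
      have := InstEAux.x_x S T' T (b T') (b T)
      exact ⟨_, this⟩
    refine ⟨v, ?_⟩
    rw [InstEAux.EL_cons, InstEAux.EL_cons, InstEAux.EL_cons, InstEAux.EL_cons, ← mul_assoc, hv, mul_assoc _ (S.x 71 v),
      ← InstEAux.EL_z]
    simp only [mul_assoc]
  | @trans _ _ _ _ _ ih1 ih2 =>
    obtain ⟨w1, h1⟩ := ih1
    obtain ⟨w2, h2⟩ := ih2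
    refine ⟨w2 + w1, ?_⟩
    rw [h1, h2, InstEAux.z_add, mul_assoc]

theorem lst_perm : (lstT.map tau).Perm lstT := by decide +kernel

variable {K : Type*} [Field K] [Fintype K] (φ : K ≃+* K) (ax : Ax chevE6 K) {q : ℕ} (hφ : ∀ t, φ t = t ^ q) (hφ2 : ∀ t, φ (φ t) = t)

/-- `s` on a product. -/
lemma s_list (L : List S3) (f : S3 → K) :
    (twE φ ax).s (L.map fun T => xG ax (gam T) (f T)).prod =
      (L.map fun T => xG ax (gam (tau T)) (gm (gam T) * φ (f T))).prod := by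
  induction L with
  | nil => simpa using (twE φ ax).s_one
  | cons T L ih =>
    have hm : (L.map fun T => xG ax (gam T) (f T)).prod ∈ chevE6.group K := by
      apply Subgroup.list_prod_mem
      intro x hx
      obtain ⟨T', -, rfl⟩ := List.mem_map.1 hx
      exact xG_mem' ax _ _
    simp only [List.map_cons, List.prod_cons]
    rw [(twE φ ax).s_mul _ (xG_mem' ax _ _) _ hm, ih, s_xG φ ax (gam_lt' T), rho_gam]

/-- `s` on `EG`. -/
lemma s_EG (a : S3 → K) : ∃ w, (twE φ ax).s (EG ax a) = EG ax (fun T => gm (gam (tau T)) * φ (a (tau T))) * xG ax 71 w := by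
  set b : S3 → K := fun T => gm (gam (tau T)) * φ (a (tau T)) with hb
  obtain ⟨w, hw⟩ := EL_perm (sys0 ax) lst_perm b
  refine ⟨w, ?_⟩
  rw [EG_list, s_list, EG_list]
  have e1 : (lstT.map fun T => xG ax (gam (tau T)) (gm (gam T) * φ (a T))).prod =
      ((InstEAux.EL (sys0 ax) (lstT.map tau) b : ↥(chevE6.group K)) : GL chevE6.Idx K) := by
    unfold InstEAux.EL
    rw [List.map_map]
    generalize lstT = L
    induction L with
    | nil => rfl
    | cons T L ih =>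
      simp only [List.map_cons, List.prod_cons, Subgroup.coe_mul, ih, Function.comp]
      congr 1
      show _ = xG ax (gam (tau T)) (b (tau T))
      simp only [hb, tau_tau]
  rw [e1, hw, Subgroup.coe_mul]
  congr 1

lemma x71_ne (u : K) (h : (sys0 ax).x 71 u = 1) : u = 0 := by
  by_contra hu
  exact Cfsg.Agent.Lib.Twisted.Ortho.xG_ne_one hE hE2 ax (r := 71) (by decide) hu (congrArg Subtype.val h)

end SuAux

open SuAux

variable {K : Type*} [Field K] [Fintype K] (φ : K ≃+* K) (ax : Ax chevE6 K) {q : ℕ} (hφ : ∀ t, φ t = t ^ q) (hφ2 : ∀ t, φ (φ t) = t)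

local notation "DK" => twD (K := K)

/-- The homomorphism. -/
theorem su_fields (hK : Fintype.card K = q ^ 2) : ∃ su : ↥(Cfsg.SU 6 K q) →* ↥(twistedE6 K q),
    (∀ a b t, a ≠ b → Al φ a b t → ∃ g, su g = lΓ φ ax hφ hφ2 a b t) ∧
    (∀ g u, su g * zΓ φ ax hφ hφ2 u = zΓ φ ax hφ hφ2 u * su g) ∧
    (∀ g a, Re DK φ a → ∃ a' w, Re DK φ a' ∧ (su g)⁻¹ * EΓ φ ax hφ hφ2 a * su g = EΓ φ ax hφ hφ2 a' * zΓ φ ax hφ hφ2 w) := by
  classical
  obtain ⟨τ₀, h1, hm⟩ := exists_su_mat φ ax hφ hφ2 hK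
  set S := sys0 ax with hS
  have hAl : ∀ a b t, Al φ a b t → Al φ a b (-t) := fun a b t ht hb => by
    rw [map_neg, ht hb]
  let su : ↥(Cfsg.SU 6 K q) →* ↥(twistedE6 K q) :=
    ((chevE6.group K).subtype.comp (S.slh.comp τ₀)).codRestrict (twistedE6 K q) hm
  have hsu : ∀ g, ((su g : ↥(twistedE6 K q)) : GL chevE6.Idx K) = ((S.slh (τ₀ g) : ↥(chevE6.group K)) : GL chevE6.Idx K) := fun _ => rfl
  refine ⟨su, ?_, ?_, ?_⟩
  · intro a b t hab ht
    obtain ⟨g, hg⟩ := h1 a b (-t) hab (hAl a b t ht)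
    refine ⟨g, Subtype.ext ?_⟩
    rw [hsu, hg, slh_tv φ ax, neg_neg]
    unfold lΓ
    rw [dif_pos ⟨hab, ht⟩]
  · intro g u
    apply Subtype.ext
    have := congrArg Subtype.val (slh_z S (τ₀ g) u.1)
    exact this
  · intro g a ha
    obtain ⟨a', w, e⟩ := Eh_slh S (τ₀ g) a
    have hX : ((su g : ↥(twistedE6 K q)) : GL chevE6.Idx K)⁻¹ * EG ax a * (su g : ↥(twistedE6 K q)) = EG ax a' * xG ax 71 w := by
      have := congrArg Subtype.val e
      exact this
    have hEa : EG ax a ∈ twistedE6 K q := EG_mem φ ax hφ hφ2 ha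
    have hmem : EG ax a' * xG ax 71 w ∈ twistedE6 K q := by
      rw [← hX]
      exact mul_mem (mul_mem (inv_mem (su g).2) hEa) (su g).2
    have hfix := (G1_le φ hφ hφ2 ax hmem).2
    have hg1 : EG ax a' ∈ chevE6.group K := (Eh S a').2
    have hg2 : xG ax 71 w ∈ chevE6.group K := xG_mem' ax _ _
    rw [(twE φ ax).s_mul _ hg1 _ hg2, s_xG φ ax (r := 71) (by decide)] at hfix
    obtain ⟨w1, hw1⟩ := s_EG φ ax a'
    rw [hw1, rho_71] at hfix
    have hg71 : gm (K := K) 71 = 1 := by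
      simp [ChevTwo.E6Tw.gm, show Se.γ 71 = 1 by decide +kernel]
    rw [hg71, one_mul, mul_assoc, xG_add] at hfix
    have hfix' : Eh S (fun T => gm (gam (tau T)) * φ (a' (tau T))) * S.x 71 (w1 + φ w) = Eh S a' * S.x 71 w := Subtype.ext hfix
    obtain ⟨hb, -⟩ := Eh_inj S (x71_ne ax) hfix'
    have hRe : Re DK φ a' := by
      intro T
      have := congrFun hb (tau T)
      simp only [tau_tau] at this
      exact this.symm
    have hEa' : EG ax a' ∈ twistedE6 K q := EG_mem φ ax hφ hφ2 hRe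
    have hz : xG ax 71 w ∈ twistedE6 K q := by
      have : xG ax 71 w = (EG ax a')⁻¹ * (EG ax a' * xG ax 71 w) := by group
      rw [this]
      exact mul_mem (inv_mem hEa') hmem
    have hzf := (G1_le φ hφ hφ2 ax hz).2
    rw [s_xG φ ax (r := 71) (by decide), rho_71, hg71, one_mul] at hzf
    have hw : φ w = w := Cfsg.Agent.Lib.Twisted.Ortho.xG_inj hE hE2 ax (r := 71) (by decide) hzf
    refine ⟨a', ⟨w, hw⟩, hRe, Subtype.ext ?_⟩
    show ((su g : ↥(twistedE6 K q)) : GL chevE6.Idx K)⁻¹ * (EΓ φ ax hφ hφ2 a).1 * (su g : ↥(twistedE6 K q)) = (EΓ φ ax hφ hφ2 a').1 * xG ax 71 w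
    have e1 : (EΓ φ ax hφ hφ2 a).1 = EG ax a := by
      unfold EΓ
      rw [dif_pos ha]
    have e2 : (EΓ φ ax hφ hφ2 a').1 = EG ax a' := by
      unfold EΓ
      rw [dif_pos hRe]
    rw [e1, e2, hX]

end Cfsg.Agent.Lib.MinE6T
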