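import Cfsg.Agent.Lib.MinE6T.InstR
import Cfsg.Agent.Lib.MinE6T.InstN
import Cfsg.Agent.Lib.MinE6T.InstG
import Cfsg.Agent.Lib.MinE6T.InstS
import Cfsg.Agent.Lib.MinE6T.InstU2
import Cfsg.Agent.Lib.Twisted.E6b

/-! The system and `SuT`. -/

set_option autoImplicit false
set_option linter.unusedSectionVars false
set_option linter.unusedVariables false
set_option linter.ambiguousOpen false

namespace Cfsg.Agent.Lib.MinE6T

open Cfsg Lie Matrix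
open Cfsg.Agent.Lib.Chev
open Tables Tables2 AxBasic Torus Mono1
open Cfsg.Agent.Lib.MinE6 Cfsg.Agent.Lib.MinE6.InstAux
open Cfsg.Agent.Lib.Twisted.E6 Cfsg.Agent.Lib.ChevTwo.E6Tw Cfsg.Agent.Lib.Twisted.Tw

variable {K : Type*} [Field K] [Fintype K] (φ : K ≃+* K) (ax : Ax chevE6 K) {q : ℕ} (hφ : ∀ t, φ t = t ^ q) (hφ2 : ∀ t, φ (φ t) = t)

/-- The system. -/
noncomputable def sysT : SysT φ (kF φ).subtype ↥(twistedE6 K q) where
  D := twD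
  z := zΓ φ ax hφ hφ2
  z_add := zΓ_add φ ax hφ hφ2
  z_ne := zΓ_ne φ ax hφ hφ2
  E := EΓ φ ax hφ hφ2
  E_zero := EΓ_zero φ ax hφ hφ2
  E_add := EΓ_add φ ax hφ hφ2
  E_add0 := EΓ_add0 φ ax hφ hφ2
  E_z := EΓ_z φ ax hφ hφ2
  E_comm := EΓ_comm φ ax hφ hφ2
  l := lΓ φ ax hφ hφ2
  l_z := lΓ_z φ ax hφ hφ2
  l_E := lΓ_E φ ax hφ hφ2
  ht := htΓ φ ax hφ hφ2
  ht_E := htΓ_E φ ax hφ hφ2
  ht_z := htΓ_z φ ax hφ hφ2
  y25 := yΓ φ ax hφ hφ2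
  y25_add := yΓ_add φ ax hφ hφ2
  hb := hbΓ φ ax hφ hφ2
  hb_mul := hbΓ_mul φ ax hφ hφ2
  hb_z := hbΓ_z φ ax hφ hφ2
  ee := ee46
  ee_β := ee46_β
  ee_tau := ee46_tau
  hb_E := hbΓ_E φ ax hφ hφ2
  nb := nbΓ φ ax hφ hφ2
  nb_eq := nbΓ_eq φ ax hφ hφ2
  nb_hb := nbΓ_hb φ ax hφ hφ2
  nb_25 := nbΓ_25 φ ax hφ hφ2
  nb_LU := nbΓ_LU φ ax hφ hφ2
  lconj := lΓ_conj φ ax hφ hφ2
  gen := gen_Γ φ ax hφ hφ2

/-- `su g = slh (τ₀ g)`: in `twistedE6` by the generation in `exists_su_mat` and `slh_tv`, `lG_mem`. `su_l` by `slh_tv`, `su_z` by `slh_z`, `su_norm` by `Eh_slh`: `(slh h)⁻¹ (Eh a) slh h = Eh a' x71 w`, LHS fixed by `(twE φ ax).s`; `s (Eh a' x71 w) = Eh (real conjugate of a') x71 w'` (in the orbit order the factors commute up to `x71`) so by `Eh_inj`, `a'` is real; and `φ w = w`. -/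
theorem exists_suT (hK : Fintype.card K = q ^ 2) : Nonempty (SuT (sysT φ ax hφ hφ2) q) := by
  obtain ⟨su, h1, h2, h3⟩ := su_fields φ ax hφ hφ2 hK
  exact ⟨{ su := su, su_l := h1, su_z := h2, su_norm := h3 }⟩

/-- The fields. `Twisted.E6.exists_φ`-like: see `Twisted/E6S.lean`, `Lib.Twisted.E6O.card_fix`. -/
theorem exists_frobT (hq : IsPrimePow q) (hK : Fintype.card K = q ^ 2) : ∃ φ : K ≃+* K, Frob φ (kF φ).subtype q := by
  classical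
  obtain ⟨φ', hφ, hφ2⟩ := Cfsg.Agent.Lib.Twisted.E6.exists_φ hq hK
  refine ⟨φ', { inv := hφ2, pow := hφ, fix := ?_, card_K := ?_, card_k := ?_ }⟩
  · intro t
    constructor
    · intro h
      exact ⟨⟨t, h⟩, rfl⟩
    · rintro ⟨u, rfl⟩
      exact u.2
  · rw [Nat.card_eq_fintype_card, hK]
  · have h1 := Cfsg.Agent.Lib.Twisted.Ortho.card_fix hq.two_le (by norm_num : (2:ℕ) ≠ 0) hK
    rw [← h1]
    refine Nat.card_congr (Equiv.subtypeEquivRight (fun t => ?_))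
    show φ' t = t ↔ t ^ q = t
    rw [hφ]

end Cfsg.Agent.Lib.MinE6T
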