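import Cfsg.Agent.Lib.MinE6T.Inv

/-! PLAN.md, `Pure` (4), (5): the count of the support from an interface for (3), (F). -/

set_option autoImplicit false
set_option linter.unusedSectionVars false
set_option linter.unusedVariables false

namespace Cfsg.Agent.Lib.MinE6T

namespace PureB

open Cfsg.Agent.Lib.MinE6
open Cfsg.Agent.Lib.MinE6T.InvA (ti_ti lactA_short actA_pos actA_neg)

/-- `N S x y = S - x + τ y`. -/
def N (S : S3) (x y : Fin 6) : S3 := mv (ti y) x S

/-- `S₂ = S - x - y + τ x + τ y`. -/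
def S2 (S : S3) (x y : Fin 6) : S3 := mv (ti y) y (mv (ti x) x S)

/-- The order. -/
def val (T : S3) : ℕ := T.1.sum fun i => 2 ^ (5 - i.val)

/-- The lower part of the parameters `d`. -/
def L1 (S : S3) : Finset (Fin 6) := S.1.filter fun x => x.val * 2 < 5

/-- The lower part of the parameters `t`. -/
def L2 (S : S3) : Finset (Fin 6 × Fin 6) :=
  (S.1 ×ˢ S.1).filter fun p => p.1 < p.2 ∧ p.1.val + p.2.val < 5

/-- The dimension of the lower parameters. -/
def ell (S : S3) : ℕ := (L1 S).card + 2 * (L2 S).card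

/-! Finite checks. -/

theorem val_inj : ∀ S T : S3, val S = val T → S = T := by decide +kernel

theorem tau_N : ∀ (S : S3) (x y : Fin 6), tau S = S → x ∈ S.1 → y ∈ S.1 → tau (N S x y) = N S y x := by
  decide +kernel

theorem tau_N_self : ∀ (S : S3) (x : Fin 6), tau S = S → x ∈ S.1 → tau (N S x x) = N S x x := by
  decide +kernel

set_option synthInstance.maxSize 4000 in
set_option synthInstance.maxHeartbeats 0 in
set_option maxRecDepth 100000 in
/-- `(4)`: the shape of a non-fixed `T`. -/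
theorem nonfixed_struct : ∀ T : S3, tau T ≠ T → ∃ (S : S3) (k' i : Fin 6), tau S = S ∧ k' ∈ S.1 ∧ i ∈ S.1 ∧ k' ≠ i ∧
    ti i ≠ k' ∧ ¬ k' = ti (ti i) ∧ T = N S k' i ∧ tau T = N S i k' ∧ tau (S2 S k' i) = S2 S k' i ∧ tau (N S i i) = N S i i ∧
    (k' ∈ S.1 ∧ ti i ∉ S.1) ∧ mv (ti i) k' S = T ∧ (i ∈ S.1 ∧ ti k' ∉ S.1) ∧ mv (ti k') i S = tau T ∧
    ¬ (k' ∈ T.1 ∧ ti i ∉ T.1) ∧ (i ∈ T.1 ∧ ti k' ∉ T.1) ∧ mv (ti k') i T = S2 S k' i ∧
    ¬ (k' ∈ (S2 S k' i).1 ∧ ti i ∉ (S2 S k' i).1) ∧ ¬ (i ∈ (S2 S k' i).1 ∧ ti k' ∉ (S2 S k' i).1) ∧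
    ¬ (k' ∈ (N S i i).1 ∧ ti i ∉ (N S i i).1) ∧ ¬ (i ∈ (N S i i).1 ∧ ti k' ∉ (N S i i).1) := by
  decide +kernel

theorem upper_self : ∀ (S : S3) (x : Fin 6), tau S = S → x ∈ S.1 → x ∉ L1 S → val S < val (N S x x) := by
  decide +kernel

theorem upper_ne : ∀ (S : S3) (x y : Fin 6), tau S = S → x ∈ S.1 → y ∈ S.1 → x ≠ y → (x, y) ∉ L2 S → (y, x) ∉ L2 S →
    val S < val (S2 S x y) ∧ tau (S2 S x y) = S2 S x y ∧ (x ∉ L1 S ∨ y ∉ L1 S) := by
  decide +kernel

theorem upper_param : ∀ (S : S3) (x y : Fin 6), tau S = S → x ∈ S.1 → y ∈ S.1 → val S < val (N S x y) →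
    (x = y → x ∉ L1 S) ∧ (x ≠ y → (x, y) ∉ L2 S ∧ (y, x) ∉ L2 S) := by
  decide +kernel

theorem L2_anti : ∀ (S : S3) (x y : Fin 6), (x, y) ∈ L2 S → (y, x) ∉ L2 S := by
  decide +kernel

theorem L2_ne : ∀ (S : S3) (x y : Fin 6), (x, y) ∈ L2 S → x ≠ y := by
  decide +kernel

theorem ell_multiset : (((Finset.univ : Finset S3).filter fun S => tau S = S).val.map fun S => ell S) =
    ({0, 1, 3, 4, 5, 6, 8, 9} : Multiset ℕ) := by decide +kernel

theorem sum_ell (x : ℕ) : ∑ S ∈ (Finset.univ : Finset S3).filter (fun S => tau S = S), x ^ ell S = gaussU x := by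
  have h : ∑ S ∈ (Finset.univ : Finset S3).filter (fun S => tau S = S), x ^ ell S =
      ((((Finset.univ : Finset S3).filter fun S => tau S = S).val.map fun S => ell S).map fun d => x ^ d).sum := by
    rw [Multiset.map_map]
    rfl
  rw [h, ell_multiset]
  simp only [Multiset.insert_eq_cons, Multiset.map_cons, Multiset.map_singleton, Multiset.sum_cons, Multiset.sum_singleton, gaussU]
  ring

open scoped Classical

variable {K : Type*} [Field K] [Fintype K] {φ : K ≃+* K} {k : Type*} [Field k] [Fintype k] {j : k →+* K} {q : ℕ}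
  {D : TwD K} {n : (S3 → K) → ℕ}

/-- What is used of PLAN.md, `Pure`, (3) and (F). -/
structure Iface (D : TwD K) (φ : K ≃+* K) (j : k →+* K) (n : (S3 → K) → ℕ) (m : ℕ) : Prop where
  single_eq : ∀ (T : S3) (a : k), tau T = T → a ≠ 0 → n (Pi.single T (j a)) = m
  uniq : ∀ S : S3, tau S = S → ∀ c c' : S3 → K, Re D φ c → Re D φ c' → 0 < n c → 0 < n c' → c S ≠ 0 → c S = c' S →
    (∀ x ∈ S.1, ∀ y ∈ S.1, c (N S x y) = c' (N S x y)) → c = c'
  lower : ∀ S : S3, tau S = S → ∀ a : k, a ≠ 0 → ∀ e : Fin 6 → Fin 6 → K,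
    (∀ x ∈ S.1, ∃ u, e x x = j u) →
    (∀ x ∈ S.1, ∀ y ∈ S.1, x ≠ y → e y x = D.kg (N S x y) * φ (e x y)) →
    (∀ x ∈ S.1, ∀ y ∈ S.1, val S < val (N S x y) → e x y = 0) →
    ∃ c : S3 → K, Re D φ c ∧ n c = m ∧ c S = j a ∧ (∀ x ∈ S.1, ∀ y ∈ S.1, c (N S x y) = e x y) ∧
      ∀ T, val S < val T → c T = 0
  pluck : ∀ S : S3, tau S = S → ∀ x ∈ S.1, ∀ y ∈ S.1, x ≠ y → ∀ c : S3 → K, Re D φ c → 0 < n c → c S ≠ 0 →
    c (S2 S x y) = 0 → c (N S x x) * c (N S y y) = 0 → c (N S x y) = 0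

lemma exists_move (hF : Frob φ j q) : ∃ u, φ u ≠ u := by
  by_contra h
  push Not at h
  have hs : Function.Surjective j := fun u => (hF.fix u).1 (h u)
  have h1 : Nat.card K ≤ Nat.card k := Nat.card_le_card_of_surjective j hs
  rw [hF.card_K, hF.card_k] at h1
  have h2 : 1 < Nat.card k := Finite.one_lt_card
  rw [hF.card_k] at h2
  nlinarith

lemma exists_x (hF : Frob φ j q) {e₁ e₂ : K} (h1 : e₁ = 1 ∨ e₁ = -1) (h2 : e₂ = 1 ∨ e₂ = -1) :
    ∃ x, e₁ * x + e₂ * φ x ≠ 0 := by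
  obtain ⟨u, hu⟩ := exists_move hF
  have hsub : u - φ u ≠ 0 := fun h => hu (sub_eq_zero.1 h).symm
  have hadd : ∃ x, x + φ x ≠ 0 := by
    by_cases h : u + φ u = 0
    · refine ⟨1, ?_⟩
      rw [map_one]
      intro h2'
      apply hsub
      linear_combination h - φ u * h2'
    · exact ⟨u, h⟩
  rcases h1 with rfl | rfl <;> rcases h2 with rfl | rfl
  · obtain ⟨x, hx⟩ := hadd
    exact ⟨x, by simpa using hx⟩
  · exact ⟨u, by intro h; apply hsub; linear_combination h⟩
  · exact ⟨u, by intro h; apply hsub; linear_combination -h⟩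
  · obtain ⟨x, hx⟩ := hadd
    exact ⟨x, by intro h; apply hx; linear_combination -h⟩

/-- (4): a real `c ≠ 0` with `n c > 0` has a fixed coordinate `≠ 0`. -/
theorem fixed_coord {m : ℕ} (hF : Frob φ j q) (hI : InvT D φ j n) (hP : Iface D φ j n m) {c : S3 → K} (hc : Re D φ c)
    (hne : c ≠ 0) (hn : 0 < n c) : ∃ T, tau T = T ∧ c T ≠ 0 := by
  by_contra hall
  push Not at hall
  obtain ⟨T, hT⟩ := Function.ne_iff.1 hne
  have hT' : c T ≠ 0 := hT
  have hTf : tau T ≠ T := fun h => hT' (hall T h)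
  obtain ⟨S, k', i, hS, hk, hi, hki, hab, hnl, hTN, htN, hS2f, hNf, hc1, hm1, hc2, hm2, hd1, hd2, hm3, he1, he2, hf1, hf2⟩ :=
    nonfixed_struct T hTf
  have hR : ∀ (t : K) (X : S3), lactA D φ (ti i) k' t c X =
      actA D.sg (ti i) k' t (actA D.sg (ti k') i (D.kr (ti i) k' * φ t) c) X := by
    intro t X
    have := lactA_short D φ (a := ti i) (b := k') hnl t c
    rw [ti_ti] at this
    rw [this]
  have hS0 : c S = 0 := hall S hS
  have hS20 : c (S2 S k' i) = 0 := hall _ hS2f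
  have hN0 : c (N S i i) = 0 := hall _ hNf
  have hreal : c (tau T) = D.kg T * φ (c T) := hc T
  have hform : ∀ t : K, lactA D φ (ti i) k' t c S =
      D.sg (ti i) k' S * (t * c T) + (D.sg (ti k') i S * D.kr (ti i) k' * D.kg T) * φ (t * c T) := by
    intro t
    rw [hR, actA_pos _ _ _ _ _ hc1, hm1, actA_pos _ _ _ _ _ hc2, hm2, actA_pos _ _ _ _ _ hd2, hm3, hS0, hS20, hreal, map_mul]
    ring
  have hsg : ∀ a b X, D.sg a b X = 1 ∨ D.sg a b X = -1 := D.sg_sign
  have hsign : (D.sg (ti k') i S * D.kr (ti i) k' * D.kg T) = 1 ∨ (D.sg (ti k') i S * D.kr (ti i) k' * D.kg T) = -1 := by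
    rcases D.sg_sign (ti k') i S with h1 | h1 <;> rcases D.kr_sign (ti i) k' with h2 | h2 <;>
      rcases D.kg_sign T with h3 | h3 <;> simp [h1, h2, h3]
  obtain ⟨x, hx⟩ := exists_x hF (D.sg_sign (ti i) k' S) hsign
  set t := x / c T with ht
  have htx : t * c T = x := by rw [ht]; field_simp
  have hAl : Al φ (ti i) k' t := fun h => absurd h hnl
  set c' := lactA D φ (ti i) k' t c with hc'
  have hc'S : c' S ≠ 0 := by
    rw [hc', hform, htx]
    exact hx
  have hre' : Re D φ c' := lactA_re hF hab hAl hc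
  have hn' : 0 < n c' := by
    rw [hc', ← hI.A _ _ hab t hAl c hc]
    exact hn
  have hT2 : c' T = c T := by
    rw [hc', hR, actA_neg _ _ _ _ _ hd1, actA_pos _ _ _ _ _ hd2, hm3, hS20]
    ring
  have hS22 : c' (S2 S k' i) = 0 := by
    rw [hc', hR, actA_neg _ _ _ _ _ he1, actA_neg _ _ _ _ _ he2, hS20]
  have hN2 : c' (N S i i) = 0 := by
    rw [hc', hR, actA_neg _ _ _ _ _ hf1, actA_neg _ _ _ _ _ hf2, hN0]
  have h := hP.pluck S hS k' hk i hi hki c' hre' hn' hc'S hS22 (by rw [hN2, mul_zero])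
  rw [← hTN, hT2] at h
  exact hT' h

/-- The real vectors of top coordinate `S`, with `n c > 0`. -/
noncomputable def BS (D : TwD K) (φ : K ≃+* K) (n : (S3 → K) → ℕ) (S : S3) : Finset (S3 → K) :=
  Finset.univ.filter fun c => Re D φ c ∧ 0 < n c ∧ c S ≠ 0 ∧ ∀ T, tau T = T → val S < val T → c T = 0

/-- The decomposition by the top coordinate. -/
theorem sum_top {m : ℕ} (hF : Frob φ j q) (hI : InvT D φ j n) (hP : Iface D φ j n m) :
    ∑ c : S3 → K, (if Re D φ c ∧ c ≠ 0 then n c else 0) =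
      ∑ S ∈ (Finset.univ : Finset S3).filter (fun S => tau S = S), ∑ c ∈ BS D φ n S, n c := by
  have h1 : ∀ S, ∑ c ∈ BS D φ n S, n c = ∑ c : S3 → K, if c ∈ BS D φ n S then n c else 0 := by
    intro S
    rw [Finset.sum_ite_mem, Finset.univ_inter]
  simp only [h1]
  rw [Finset.sum_comm]
  refine Finset.sum_congr rfl fun c _ => ?_
  by_cases hn : 0 < n c
  · by_cases hRe : Re D φ c ∧ c ≠ 0
    · rw [if_pos hRe]
      obtain ⟨hre, hne⟩ := hRe
      obtain ⟨T₀, hT₀, hT₀'⟩ := fixed_coord hF hI hP hre hne hn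
      set A : Finset S3 := (Finset.univ : Finset S3).filter (fun T => tau T = T ∧ c T ≠ 0) with hA
      have hAne : A.Nonempty := ⟨T₀, Finset.mem_filter.2 ⟨Finset.mem_univ _, hT₀, hT₀'⟩⟩
      obtain ⟨S, hSA, hSmax⟩ := Finset.exists_max_image A val hAne
      have hSA' := (Finset.mem_filter.1 hSA).2
      have hBS : c ∈ BS D φ n S := by
        refine Finset.mem_filter.2 ⟨Finset.mem_univ _, hre, hn, hSA'.2, fun T hT hlt => ?_⟩
        by_contra hne'
        have := hSmax T (Finset.mem_filter.2 ⟨Finset.mem_univ _, hT, hne'⟩)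
        omega
      rw [Finset.sum_eq_single S]
      · rw [if_pos hBS]
      · intro S' hS' hne'
        rw [if_neg]
        intro hB
        obtain ⟨-, -, -, h3, h4⟩ := Finset.mem_filter.1 hB
        have hS'f := (Finset.mem_filter.1 hS').2
        have hSf := hSA'.1
        rcases lt_trichotomy (val S) (val S') with h | h | h
        · exact h3 (by
            have := (Finset.mem_filter.1 hBS).2.2.2.2 S' hS'f h
            exact this)
        · exact hne' (val_inj _ _ h).symm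
        · exact hSA'.2 (h4 S hSf h)
      · intro hnot
        exact (hnot (Finset.mem_filter.2 ⟨Finset.mem_univ _, hSA'.1⟩)).elim
    · rw [if_neg hRe]
      symm
      refine Finset.sum_eq_zero fun S _ => ?_
      rw [if_neg]
      intro hB
      obtain ⟨-, h1', -, h3, -⟩ := Finset.mem_filter.1 hB
      refine hRe ⟨h1', ?_⟩
      rintro rfl
      exact h3 rfl
  · have hn0 : n c = 0 := by omega
    have e1 : (if Re D φ c ∧ c ≠ 0 then n c else 0) = 0 := by split_ifs <;> simp [hn0]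
    rw [e1]
    symm
    refine Finset.sum_eq_zero fun S _ => ?_
    split_ifs <;> simp [hn0]

/-- The lower parameters. -/
abbrev PP (k K : Type*) [Field k] (S : S3) := kˣ × (L1 S → k) × (L2 S → K)

/-- The coordinates on the neighbours given by the lower parameters. -/
noncomputable def eOf (D : TwD K) (φ : K ≃+* K) (j : k →+* K) (S : S3) (p : PP k K S) (x y : Fin 6) : K :=
  if _h : x = y then (if h1 : x ∈ L1 S then j (p.2.1 ⟨x, h1⟩) else 0)
  else if h2 : (x, y) ∈ L2 S then p.2.2 ⟨(x, y), h2⟩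
  else if h3 : (y, x) ∈ L2 S then D.kg (N S y x) * φ (p.2.2 ⟨(y, x), h3⟩)
  else 0

lemma eOf_c1 (S : S3) (p : PP k K S) (x : Fin 6) : ∃ u, eOf D φ j S p x x = j u := by
  unfold eOf
  rw [dif_pos rfl]
  split_ifs
  · exact ⟨_, rfl⟩
  · exact ⟨0, (map_zero j).symm⟩

lemma eOf_pos1 {S : S3} (p : PP k K S) {x y : Fin 6} (hne : x ≠ y) (h : (x, y) ∈ L2 S) :
    eOf D φ j S p x y = p.2.2 ⟨(x, y), h⟩ := by
  unfold eOf
  rw [dif_neg hne, dif_pos h]

lemma eOf_pos2 {S : S3} (p : PP k K S) {x y : Fin 6} (hne : x ≠ y) (h : (x, y) ∉ L2 S) (h' : (y, x) ∈ L2 S) :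
    eOf D φ j S p x y = D.kg (N S y x) * φ (p.2.2 ⟨(y, x), h'⟩) := by
  unfold eOf
  rw [dif_neg hne, dif_neg h, dif_pos h']

lemma eOf_zero {S : S3} (p : PP k K S) {x y : Fin 6} (hne : x ≠ y) (h : (x, y) ∉ L2 S) (h' : (y, x) ∉ L2 S) :
    eOf D φ j S p x y = 0 := by
  unfold eOf
  rw [dif_neg hne, dif_neg h, dif_neg h']

lemma eOf_c2 (hF : Frob φ j q) {S : S3} (hS : tau S = S) (p : PP k K S) {x y : Fin 6} (hx : x ∈ S.1) (hy : y ∈ S.1) (hne : x ≠ y) :
    eOf D φ j S p y x = D.kg (N S x y) * φ (eOf D φ j S p x y) := by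
  by_cases h : (x, y) ∈ L2 S
  · rw [eOf_pos2 p hne.symm (L2_anti S x y h) h, eOf_pos1 p hne h]
  · by_cases h' : (y, x) ∈ L2 S
    · rw [eOf_pos1 p hne.symm h', eOf_pos2 p hne h h', map_mul, hF.inv, InvA.map_sign (D.kg_sign _)]
      have e : D.kg (N S y x) = D.kg (N S x y) := by
        rw [← tau_N S x y hS hx hy, D.kg_tau]
      rw [e, ← mul_assoc, InvA.sq_sign (D.kg_sign _), one_mul]
    · rw [eOf_zero p hne.symm h' h, eOf_zero p hne h h']
      simp

lemma eOf_c3 {S : S3} (hS : tau S = S) (p : PP k K S) {x y : Fin 6} (hx : x ∈ S.1) (hy : y ∈ S.1)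
    (hlt : val S < val (N S x y)) : eOf D φ j S p x y = 0 := by
  obtain ⟨h1, h2⟩ := upper_param S x y hS hx hy hlt
  unfold eOf
  by_cases h : x = y
  · rw [dif_pos h, dif_neg (h1 h)]
  · rw [dif_neg h, dif_neg (h2 h).1, dif_neg (h2 h).2]

/-- The count of `BS`. -/
theorem card_BS {m : ℕ} (hF : Frob φ j q) (hm : 0 < m) (hP : Iface D φ j n m) {S : S3} (hS : tau S = S) :
    (BS D φ n S).card = (q - 1) * q ^ ell S ∧ ∀ c ∈ BS D φ n S, n c = m := by
  have hex : ∀ p : PP k K S, ∃ c : S3 → K, Re D φ c ∧ n c = m ∧ c S = j (p.1 : k) ∧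
      (∀ x ∈ S.1, ∀ y ∈ S.1, c (N S x y) = eOf D φ j S p x y) ∧ ∀ T, val S < val T → c T = 0 := fun p =>
    hP.lower S hS p.1 p.1.ne_zero (eOf D φ j S p) (fun x _ => eOf_c1 S p x)
      (fun x hx y hy hne => eOf_c2 hF hS p hx hy hne) (fun x hx y hy hlt => eOf_c3 hS p hx hy hlt)
  choose cOf hc1 hc2 hc3 hc4 hc5 using hex
  have hjinj : Function.Injective j := j.injective
  have hsurj : ∀ c ∈ BS D φ n S, ∃ p, cOf p = c := by
    intro c hc
    obtain ⟨-, hre, hn, hcS, htop⟩ := Finset.mem_filter.1 hc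
    have hfix : ∀ T, tau T = T → ∃ u, j u = c T := by
      intro T hT
      have h := hre T
      rw [hT, D.kg_fix T hT, one_mul] at h
      exact (hF.fix (c T)).1 h.symm
    obtain ⟨u, hu⟩ := hfix S hS
    have hu0 : u ≠ 0 := by
      rintro rfl
      rw [map_zero] at hu
      exact hcS hu.symm
    have hd : ∀ x : L1 S, ∃ u, j u = c (N S x.1 x.1) := fun x =>
      hfix _ (tau_N_self S x.1 hS (Finset.mem_filter.1 x.2).1)
    choose d hd' using hd
    let p : PP k K S := (Units.mk0 u hu0, d, fun r => c (N S r.1.1 r.1.2))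
    refine ⟨p, ?_⟩
    symm
    refine hP.uniq S hS c (cOf p) hre (hc1 p) hn (by rw [hc2 p]; exact hm) hcS ?_ ?_
    · rw [hc3 p, ← hu]; rfl
    · intro x hx y hy
      rw [hc4 p x hx y hy]
      unfold eOf
      by_cases h : x = y
      · subst h
        rw [dif_pos rfl]
        by_cases h1 : x ∈ L1 S
        · rw [dif_pos h1]
          exact (hd' ⟨x, h1⟩).symm
        · rw [dif_neg h1]
          exact htop _ (tau_N_self S x hS hx) (upper_self S x hS hx h1)
      · rw [dif_neg h]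
        by_cases h2 : (x, y) ∈ L2 S
        · rw [dif_pos h2]
        · rw [dif_neg h2]
          by_cases h3 : (y, x) ∈ L2 S
          · rw [dif_pos h3]
            have := hre (N S y x)
            rw [tau_N S y x hS hy hx] at this
            exact this
          · rw [dif_neg h3]
            obtain ⟨u1, u2, u3⟩ := upper_ne S x y hS hx hy h h2 h3
            refine hP.pluck S hS x hx y hy h c hre hn hcS (htop _ u2 u1) ?_
            rcases u3 with u3 | u3
            · rw [htop _ (tau_N_self S x hS hx) (upper_self S x hS hx u3), zero_mul]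
            · rw [htop _ (tau_N_self S y hS hy) (upper_self S y hS hy u3), mul_zero]
  refine ⟨?_, fun c hc => ?_⟩
  · have hcard : (BS D φ n S).card = (Finset.univ : Finset (PP k K S)).card := by
      symm
      refine Finset.card_bij (fun p _ => cOf p) ?_ ?_ ?_
      · intro p _
        refine Finset.mem_filter.2 ⟨Finset.mem_univ _, hc1 p, by rw [hc2 p]; exact hm, ?_, fun T _ hlt => hc5 p T hlt⟩
        rw [hc3 p]
        exact fun h => p.1.ne_zero (by simpa using h)
      · intro p _ p' _ h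
        have h' : cOf p = cOf p' := h
        have e1 : p.1 = p'.1 := by
          apply Units.ext
          apply hjinj
          rw [← hc3 p, ← hc3 p', h']
        have e2 : p.2.1 = p'.2.1 := by
          funext x
          have hx : x.1 ∈ S.1 := (Finset.mem_filter.1 x.2).1
          have a1 := hc4 p x.1 hx x.1 hx
          have a2 := hc4 p' x.1 hx x.1 hx
          rw [h', a2] at a1
          unfold eOf at a1
          rw [dif_pos rfl, dif_pos rfl, dif_pos x.2, dif_pos x.2] at a1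
          exact (hjinj a1).symm
        have e3 : p.2.2 = p'.2.2 := by
          funext r
          have hr := Finset.mem_product.1 (Finset.mem_filter.1 r.2).1
          have hne := L2_ne S r.1.1 r.1.2 r.2
          have a1 := hc4 p r.1.1 hr.1 r.1.2 hr.2
          have a2 := hc4 p' r.1.1 hr.1 r.1.2 hr.2
          rw [h', a2] at a1
          unfold eOf at a1
          rw [dif_neg hne, dif_neg hne, dif_pos r.2, dif_pos r.2] at a1
          exact a1.symm
        exact Prod.ext e1 (Prod.ext e2 e3)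
      · intro c hc
        obtain ⟨p, hp⟩ := hsurj c hc
        exact ⟨p, Finset.mem_univ _, hp⟩
    rw [hcard, Finset.card_univ, Fintype.card_prod, Fintype.card_prod, Fintype.card_units, Fintype.card_fun, Fintype.card_fun,
      Fintype.card_coe, Fintype.card_coe]
    have h1 : Fintype.card k = q := by rw [← Nat.card_eq_fintype_card]; exact hF.card_k
    have h2 : Fintype.card K = q ^ 2 := by rw [← Nat.card_eq_fintype_card]; exact hF.card_K
    rw [h1, h2, ell, pow_add, pow_mul]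
  · obtain ⟨p, rfl⟩ := hsurj c hc
    exact hc2 p

/-- PLAN.md, `Pure`: the structure theorem from the interface. -/
theorem pure_of_iface {m : ℕ} (hF : Frob φ j q) (hI : InvT D φ j n) (hm : 0 < m) (hP : Iface D φ j n m) :
    (∀ (T : S3) (a : k), tau T = T → a ≠ 0 → n (Pi.single T (j a)) = m) ∧
    ∑ c : S3 → K, (if Re D φ c ∧ c ≠ 0 then n c else 0) = m * ((q - 1) * gaussU q) := by
  refine ⟨hP.single_eq, ?_⟩
  rw [sum_top hF hI hP]
  have h : ∀ S ∈ (Finset.univ : Finset S3).filter (fun S => tau S = S), ∑ c ∈ BS D φ n S, n c = m * ((q - 1) * q ^ ell S) := by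
    intro S hS
    obtain ⟨h1, h2⟩ := card_BS hF hm hP (Finset.mem_filter.1 hS).2
    rw [Finset.sum_const_nat h2, h1, mul_comm]
  rw [Finset.sum_congr rfl h, ← Finset.mul_sum, ← Finset.mul_sum, sum_ell]

end PureB

end Cfsg.Agent.Lib.MinE6T
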