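import Cfsg.Agent.Lib.MinE6T.Rn
import Cfsg.Agent.Lib.MinE6T.Ar
import Cfsg.Agent.Lib.MinE6T.Inst
import Cfsg.Agent.Lib.Char.Central
import Cfsg.Agent.Lib.Twisted.E6S

/-! The assembly. -/

set_option autoImplicit false
set_option linter.unusedSectionVars false
set_option linter.unusedVariables false
set_option linter.ambiguousOpen false
set_option linter.style.haveILetI false

namespace Cfsg.Agent.Lib.MinE6T

open Module
open Cfsg Lie
open Cfsg.Agent.Lib.MinE6 (β₀ S3)

/-- The abstract bound. -/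
theorem bound_abs {K : Type*} [Field K] [Fintype K] {φ : K ≃+* K} {k : Type*} [Field k] [Fintype k] {j : k →+* K} {q : ℕ}
    {Γ : Type*} [Group Γ] [Finite Γ] {V : Type} [AddCommGroup V] [Module ℂ V] [FiniteDimensional ℂ V]
    (hF : Frob φ j q) (hq : 2 ≤ q)
    (S : SysT φ j Γ) (Su : SuT S q) (ρ : Representation ℂ Γ V) (ψ : AddChar K ℂ) (hψ : ψ (j 1) ≠ 1) (hfix : NoFix S ρ) (hz : ∃ u, ρ (S.z u) ≠ 1)
    (hd : finrank ℂ V ∣ NN q) : BB q ≤ finrank ℂ V := by
  by_contra hc
  have hlt : finrank ℂ V < BB q := by omega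
  obtain ⟨hl, hk⟩ := red (S := S) (ρ := ρ) (ψ := ψ) hF hψ hz hlt
  rw [hk] at hd hlt
  by_cases hL : LTriv Su ρ ψ
  · exact no_dvd0 hq (R_le_four hF Su hψ hfix hL hl) hd
  · have h1 := R_large (S := S) (ρ := ρ) hF Su hψ hL
    rw [BB_eq hq] at hlt
    have h2 : nf S ρ ψ 0 = (q ^ 6 - 1) / (q + 1) ∨ nf S ρ ψ 0 = (q ^ 6 - 1) / (q + 1) + 1 := by omega
    rcases h2 with h2 | h2
    · rw [h2] at hd
      exact no_dvd1 hq hd
    · rw [h2, ← add_assoc] at hd
      exact no_dvd2 hq hd

/-- The statement. -/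
theorem main {K : Type*} [Field K] [Fintype K] (q : ℕ) (hq : IsPrimePow q) (hK : Fintype.card K = q ^ 2)
    (k : ℕ) (ρ : Representation ℂ (Cfsg.Lie.twistedE6 K q) (Fin k → ℂ)) (hρ : ρ.IsIrreducible) (hk : 2 ≤ k) :
    q * (q ^ 6 - q ^ 3 + 1) * (q ^ 4 + 1) ≤ k := by
  classical
  obtain ⟨φ, k₀, hF, S, ⟨Su⟩⟩ := exists_sysT hq hK
  haveI : Fintype k₀ := Fintype.ofFinite _
  haveI : Finite ↥(Cfsg.Lie.twistedE6 K q) := inferInstance
  have hq2 : 2 ≤ q := hq.two_le
  obtain ⟨ψ, hψ1⟩ : ∃ ψ : AddChar K ℂ, ψ 1 ≠ 1 := by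
    obtain ⟨ψ, hψ⟩ := AddChar.exists_apply_ne_zero.mpr (one_ne_zero (α := K))
    exact ⟨ψ, hψ⟩
  have hψ : ψ (k₀.subtype 1) ≠ 1 := by
    simpa using hψ1
  haveI : Nontrivial (Fin k → ℂ) := by
    haveI : Nontrivial (Fin k) := Fin.nontrivial_iff_two_le.2 hk
    infer_instance
  have hfin : finrank ℂ (Fin k → ℂ) = k := by simp
  have hV : Nontrivial (Fin k → ℂ) := inferInstance
  have hfix : NoFix S ρ := by
    intro v hv1 hv2 hv3
    by_contra hv0
    let W : Subgroup ↥(Cfsg.Lie.twistedE6 K q) :=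
      { carrier := {g | ρ g v = v}
        mul_mem' := by
          intro a b ha hb
          show ρ (a * b) v = v
          rw [map_mul, Module.End.mul_apply, hb, ha]
        one_mem' := by
          show ρ 1 v = v
          simp
        inv_mem' := by
          intro a ha
          show ρ a⁻¹ v = v
          conv_lhs => rw [← ha]
          rw [← Module.End.mul_apply, ← map_mul, inv_mul_cancel, map_one]
          rfl }
    have hW : W = ⊤ := S.gen W (fun a b t h h' => hv1 a b t h h') (fun u => hv2 u) (fun u => hv3 u)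
    have hall : ∀ g, ρ g v = v := fun g => by
      have : g ∈ W := by rw [hW]; trivial
      exact this
    let L : Subrepresentation ρ := ⟨Submodule.span ℂ {v}, fun g w hw => by
      obtain ⟨c, rfl⟩ := Submodule.mem_span_singleton.1 hw
      rw [map_smul, hall]
      exact Submodule.smul_mem _ _ (Submodule.mem_span_singleton_self v)⟩
    rcases hρ.eq_bot_or_eq_top L with h | h
    · have h1 : L.toSubmodule = ⊥ := congrArg Subrepresentation.toSubmodule h
      have h2 : v ∈ L.toSubmodule := Submodule.mem_span_singleton_self v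
      rw [h1, Submodule.mem_bot] at h2
      exact hv0 h2
    · have h1 : L.toSubmodule = ⊤ := congrArg Subrepresentation.toSubmodule h
      have h2 : finrank ℂ (Submodule.span ℂ {v}) = 1 := finrank_span_singleton hv0
      have h3 : Submodule.span ℂ {v} = (⊤ : Submodule ℂ (Fin k → ℂ)) := h1
      rw [h3, finrank_top, hfin] at h2
      omega
  have hd : k ∣ NN q := by
    haveI : ρ.IsIrreducible := hρ
    have h1 := Cfsg.Agent.Lib.Char.Central.finrank_dvd_card (ρ := ρ)
    rw [hfin] at h1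
    exact h1.trans (card_dvd hq hK)
  have hz : ∃ u, ρ (S.z u) ≠ 1 := by
    -- simplicity: `Lib.Twisted.E6S.simple_E6`: `ρ.ker` is `⊥` (then `S.z_ne`) or `⊤` (then `NoFix` fails).
    obtain ⟨hsimple, -⟩ := Cfsg.Agent.Lib.Twisted.E6S.simple_E6 hq hK
    haveI := hsimple
    rcases (MonoidHom.normal_ker ρ).eq_bot_or_eq_top with h | h
    · refine ⟨1, fun h1 => ?_⟩
      have h2 : S.z 1 ∈ MonoidHom.ker ρ := h1
      rw [h, Subgroup.mem_bot] at h2
      exact S.z_ne 1 one_ne_zero h2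
    · exfalso
      have htriv : ∀ g, ρ g = 1 := fun g => by
        have : g ∈ MonoidHom.ker ρ := by rw [h]; trivial
        exact this
      obtain ⟨v, hv⟩ := exists_ne (0 : Fin k → ℂ)
      exact hv (hfix v (fun a b t h1 h2 => by rw [htriv]; rfl) (fun u => by rw [htriv]; rfl) (fun u => by rw [htriv]; rfl))
  have h := bound_abs hF hq2 S Su ρ ψ hψ hfix hz (by rw [hfin]; exact hd)
  rw [hfin] at h
  exact h

end Cfsg.Agent.Lib.MinE6T
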